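import Groth.Agent.CommAlgDim.GlobalDim
import Groth.Agent.CommAlgDim.Depth
import Groth.Agent.InvLib.Depth
import Groth.Agent.NormalLib.Regular
import Mathlib.RingTheory.Flat.Equalizer
import Mathlib.RingTheory.Flat.FaithfullyFlat.Algebra
import Mathlib.RingTheory.IntegralClosure.GoingDown
import Mathlib.RingTheory.Regular.Free

/-!
# Regularity descends along flat local maps; maximal Cohen–Macaulay modules over regular local rings
-/

set_option autoImplicit false

universe u

open IsLocalRing TensorProduct CommAlgDim Pointwise RingTheory.Sequence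

namespace RegFlatLib

theorem pdlt_of_baseChange (A : Type u) [CommRing A] [IsNoetherianRing A] (B : Type u) [CommRing B]
    [Algebra A B] [Module.FaithfullyFlat A B] :
    ∀ (n : ℕ) (M : Type u) [AddCommGroup M] [Module A M] [Module.Finite A M],
      PDLT B (B ⊗[A] M) (n + 1) → PDLT A M (n + 1)
  | 0, M, _, _, _, h => by
    have := pdlt_one_iff.1 h
    have : Module.Flat A M := Module.Flat.of_flat_tensorProduct A M B
    have : Module.FinitePresentation A M := Module.finitePresentation_of_finite A M
    exact pdlt_one_iff.2 Module.Flat.projective_of_finitePresentation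
  | n + 1, M, _, _, _, h => by
    obtain ⟨k, φ, hφ⟩ := Module.Finite.exists_fin' A M
    rw [pdlt_ker_iff φ hφ n]
    refine pdlt_of_baseChange A B n (LinearMap.ker φ) ?_
    have hs : Function.Surjective (AlgebraTensorModule.lTensor B B φ) :=
      LinearMap.lTensor_surjective B hφ
    exact PDLT.of_equiv (LinearMap.tensorKerEquiv B B φ).symm ((pdlt_ker_iff _ hs n).1 h)

/-- Regularity descends along flat local homomorphisms. -/
theorem isRegularLocalRing_of_flat (R : Type u) [CommRing R] [IsLocalRing R] [IsNoetherianRing R]
    (S : Type u) [CommRing S] [IsRegularLocalRing S] [Algebra R S] [IsLocalHom (algebraMap R S)]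
    [Module.Flat R S] : IsRegularLocalRing R := by
  have : Module.FaithfullyFlat R S := Module.FaithfullyFlat.of_flat_of_isLocalHom
  exact isRegularLocalRing_of_pdlt (pdlt_of_baseChange R S _ (R ⧸ maximalIdeal R)
    (pdlt_of_isRegularLocalRing S (S ⊗[R] (R ⧸ maximalIdeal R))))

/-- Maximal Cohen–Macaulay modules over regular local rings are free. -/
theorem free_of_hasSeqIn : ∀ (d : ℕ) (R : Type u) [CommRing R] [IsRegularLocalRing R],
    (maximalIdeal R).spanFinrank = d → ∀ (M : Type u) [AddCommGroup M] [Module R M] [Module.Finite R M],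
      HasSeqIn (maximalIdeal R) M d → Module.Free R M
  | 0, R, _, _, hd, M, _, _, _, _ => by
    have h := pdlt_of_isRegularLocalRing R M
    rw [hd, zero_add, pdlt_one_iff] at h
    exact Module.free_of_flat_of_isLocalRing
  | d + 1, R, _, _, hd, M, _, _, _, hM => by
    classical
    have hass := (hasSeqIn_one_iff (M := M) (maximalIdeal R)).1 (hM.mono (Nat.le_add_left 1 d))
    obtain ⟨x, hxm, hx2, hxS⟩ := exists_mem_notMem_sq (associatedPrimes.finite R M)
      (fun P hP => hP.isPrime) (fun P hP h => hass P hP h.ge)
      (fun h0 => by rw [h0, Submodule.spanFinrank_bot] at hd; omega)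
    have hxreg : IsSMulRegular M x := by
      by_contra hcon
      have h1 : x ∈ ({r : R | IsSMulRegular M r})ᶜ := hcon
      rw [← biUnion_associatedPrimes_eq_compl_regular R M, Set.mem_iUnion₂] at h1
      obtain ⟨P, hP, hxP⟩ := h1
      exact hxS P hP hxP
    have := isRegularLocalRing_quotient_singleton hxm hx2
    have hd' : (maximalIdeal (R ⧸ Ideal.span {x})).spanFinrank = d := by
      have := spanFinrank_maximalIdeal_quotient_singleton hxm hx2
      omega
    obtain ⟨rs, hl, hm, hr⟩ := hM.quotSMulTop hxm hxreg
    have := Module.Finite.of_restrictScalars_finite R (R ⧸ Ideal.span {x}) (QuotSMulTop x M)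
    have hfree : Module.Free (R ⧸ Ideal.span {x}) (QuotSMulTop x M) := by
      refine free_of_hasSeqIn d _ hd' _ ⟨rs.map (algebraMap R (R ⧸ Ideal.span {x})), by simpa using hl, ?_,
        (isWeaklyRegular_map_algebraMap_iff (R ⧸ Ideal.span {x}) (QuotSMulTop x M) rs).2 hr⟩
      intro r hr'
      obtain ⟨r₀, hr₀, rfl⟩ := List.mem_map.1 hr'
      have h1 := Ideal.mem_map_of_mem (Ideal.Quotient.mk (Ideal.span {x})) (hm r₀ hr₀)
      rwa [IsLocalRing.map_maximalIdeal_of_surjective _ Ideal.Quotient.mk_surjective] at h1
    have : Module.FinitePresentation R M := Module.finitePresentation_of_finite R M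
    exact (Module.free_quotSMulTop_iff_free R M
      (by rw [jacobson_eq_maximalIdeal ⊥ bot_ne_top]; exact hxm) hxreg).1 hfree

/-- Finite Cohen–Macaulay domains over regular local rings are free. -/
theorem free_of_finite_of_depth (R S : Type u) [CommRing R] [CommRing S] [IsRegularLocalRing R] [IsDomain S]
    [Algebra R S] [Module.Finite R S] (hinj : Function.Injective (algebraMap R S))
    (hCM : ∀ (q : Ideal S) [q.IsMaximal],
      (ringKrullDim (Localization.AtPrime q) : WithBot ℕ∞) ≤
        (LocCoh.depth (Localization.AtPrime q) (Localization.AtPrime q) : ℕ∞)) :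
    Module.Free R S := by
  have : IsDomain R := CommAlgDim.isDomain_of_isRegularLocalRing R
  have : IsIntegrallyClosed R := NormalLib.isIntegrallyClosed_of_isRegularLocalRing R
  have : FaithfulSMul R S := (faithfulSMul_iff_algebraMap_injective R S).2 hinj
  have : Algebra.IsIntegral R S := Algebra.IsIntegral.of_finite R S
  have : IsNoetherianRing S := IsNoetherianRing.of_finite R S
  set d := (maximalIdeal R).spanFinrank with hd
  have hR := (isRegularLocalRing_iff R).1 inferInstance
  have hseq : ∀ (Q : Ideal S) [Q.IsPrime], Q.under R = maximalIdeal R →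
      InvLib.HasSeq (Localization.AtPrime Q) (LocalizedModule Q.primeCompl S) d := by
    intro Q _ hQ
    have : Q.IsMaximal := Ideal.isMaximal_of_isIntegral_of_isMaximal_comap (R := R) Q
      (show (Q.under R).IsMaximal by rw [hQ]; exact maximalIdeal.isMaximal R)
    have : Q.LiesOver (maximalIdeal R) := ⟨hQ.symm⟩
    have hh := Ideal.height_eq_height_add_of_liesOver_of_hasGoingDown (maximalIdeal R) Q
    have hle : (maximalIdeal R).height ≤ Q.height := hh ▸ le_self_add
    have hdim : ((d : ℕ∞) : WithBot ℕ∞) ≤ ringKrullDim (Localization.AtPrime Q) := by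
      rw [IsLocalization.AtPrime.ringKrullDim_eq_height Q (Localization.AtPrime Q)]
      calc ((d : ℕ∞) : WithBot ℕ∞) = ringKrullDim R := hR
        _ = ((maximalIdeal R).height : WithBot ℕ∞) := maximalIdeal_height_eq_ringKrullDim.symm
        _ ≤ _ := WithBot.coe_le_coe.2 hle
    have h1 := InvLib.hasSeq_of_le_depth (B := Localization.AtPrime Q) (N := Localization.AtPrime Q)
      (WithBot.coe_le_coe.1 (hdim.trans (hCM Q)))
    exact InvLib.HasSeq.congr
      ((IsLocalizedModule.iso Q.primeCompl (Algebra.linearMap S (Localization.AtPrime Q))).extendScalarsOfIsLocalization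
        Q.primeCompl (Localization.AtPrime Q)).symm h1
  have hloc : ∀ (p : Ideal R) [p.IsPrime], maximalIdeal R ≤ p →
      HasSeqIn (maximalIdeal (Localization.AtPrime p)) (LocalizedModule p.primeCompl S) d := by
    intro p hp hle
    have : p = maximalIdeal R := ((maximalIdeal.isMaximal R).eq_of_le hp.ne_top hle).symm
    subst this
    exact InvLib.hasSeq_descent (maximalIdeal R) d S hseq
  exact free_of_hasSeqIn d R rfl S (CommAlgDim.hasSeqIn_of_forall_localization d S hloc)

end RegFlatLib
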